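import Cfsg.Agent.Lib.Helper21.TS.XA
import Cfsg.Agent.Lib.helper7.TO.Defs

/-!
# Project TOO (S5681, and S5709 for `6 ≤ b`): `O_a(q) ⊗ O_b(q)` is maximal in `Ω_ab(q)`, `q` odd, `a` odd — definitions

Standard model (as in TP / TO / TS): `V = F^(Fin a × Fin b) = A ⊗ B`, `ten u w = u ⊗ w`, `K0 = all α ⊗ₖ β`.
`J1`, `J2` are the Gram matrices of non-degenerate SYMMETRIC forms on `A = F^a`, `B = F^b`; `JV J1 J2 = J1 ⊗ₖ J2`
is symmetric on `V`.  The vocabulary `bf J x y`, `opm J v w = (x ↦ f(w,x) v)`, `Iso J`, `SkewAdj`, `SelfAdj`, `InM M X`,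
`sieg J w z`, `XBm J2 ζ w = 1 + ζ ⊗ₖ opm J2 w w` is that of `Helper21.TS` (general in `J`), `kA`, `kB`, `mat_ext_ten`
that of `helper7.TO`.  `A` is the factor of ODD dimension, `B` the factor that has totally singular planes.
See `PLAN.md` and `Skel.lean.txt` in this folder.
-/

set_option autoImplicit false

namespace Cfsg.Agent.Lib.Helper28.TOO

open Matrix
open scoped Kronecker
open Cfsg.Agent.Lib.helper7.TP Cfsg.Agent.Lib.Helper21.TS

variable {ι : Type*} [Fintype ι] [DecidableEq ι] {a b : ℕ} {F : Type*} [Field F]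

/-- hypotheses on the two Gram matrices (both symmetric). -/
structure OCtx (J1 : Matrix (Fin a) (Fin a) F) (J2 : Matrix (Fin b) (Fin b) F) : Prop where
  two : (2 : F) ≠ 0
  sym1 : J1ᵀ = J1
  sym2 : J2ᵀ = J2
  det1 : J1.det ≠ 0
  det2 : J2.det ≠ 0

/-- `O(V)`, the isometry group of `J1 ⊗ J2`. -/
def OV (J1 : Matrix (Fin a) (Fin a) F) (J2 : Matrix (Fin b) (Fin b) F) :
    Subgroup (Matrix.GeneralLinearGroup (Fin a × Fin b) F) := Iso (JV J1 J2)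

/-- `Ω(J)`: the commutator subgroup of `Iso J`, inside `GL`. -/
def Om (J : Matrix ι ι F) : Subgroup (Matrix.GeneralLinearGroup ι F) :=
  (commutator (Iso J)).map (Iso J).subtype

/-- `T1 = Ω(A) ⊗ 1 · 1 ⊗ Ω(B)`. -/
noncomputable def T1 (J1 : Matrix (Fin a) (Fin a) F) (J2 : Matrix (Fin b) (Fin b) F) :
    Subgroup (Matrix.GeneralLinearGroup (Fin a × Fin b) F) :=
  (Om J1).map (Cfsg.Agent.Lib.helper7.TO.kA a b F) ⊔ (Om J2).map (Cfsg.Agent.Lib.helper7.TO.kB a b F)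

/-- `w₁, w₂` span a totally singular plane of `(B, J2)`. -/
def IsTS (J : Matrix ι ι F) (w₁ w₂ : ι → F) : Prop :=
  bf J w₁ w₁ = 0 ∧ bf J w₁ w₂ = 0 ∧ bf J w₂ w₂ = 0 ∧
    ∀ c₁ c₂ : F, c₁ • w₁ + c₂ • w₂ = 0 → c₁ = 0 ∧ c₂ = 0

/-- the nilpotent part `x ↦ f(w₂,x) w₁ - f(w₁,x) w₂` of the long root elements with centre `⟨w₁,w₂⟩`. -/
def Nw (J : Matrix ι ι F) (w₁ w₂ : ι → F) : Matrix ι ι F := opm J w₁ w₂ - opm J w₂ w₁

/-- `N = 1 ⊗ N_W` on `V`; `x_W(c) = 1 + c • NV`. -/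
def NV (J2 : Matrix (Fin b) (Fin b) F) (w₁ w₂ : Fin b → F) :
    Matrix (Fin a × Fin b) (Fin a × Fin b) F :=
  (1 : Matrix (Fin a) (Fin a) F) ⊗ₖ Nw J2 w₁ w₂

/-- the standard subspace `L_W = A ⊗ ⟨w₁,w₂⟩`. -/
def Lpl (w₁ w₂ : Fin b → F) : Submodule F (Fin a × Fin b → F) where
  carrier := {v | ∃ u₁ u₂ : Fin a → F, v = ten u₁ w₁ + ten u₂ w₂}
  add_mem' := by
    rintro _ _ ⟨u₁, u₂, rfl⟩ ⟨u₁', u₂', rfl⟩
    refine ⟨u₁ + u₁', u₂ + u₂', ?_⟩
    rw [ten_add_left, ten_add_left]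
    abel
  zero_mem' := ⟨0, 0, by funext p; simp [ten]⟩
  smul_mem' := by
    rintro c _ ⟨u₁, u₂, rfl⟩
    refine ⟨c • u₁, c • u₂, ?_⟩
    rw [ten_smul_left, ten_smul_left, smul_add]

theorem mem_Lpl (w₁ w₂ : Fin b → F) (v : Fin a × Fin b → F) :
    v ∈ Lpl (a := a) w₁ w₂ ↔ ∃ u₁ u₂ : Fin a → F, v = ten u₁ w₁ + ten u₂ w₂ := Iff.rfl

/-- the perpendicular space of a subspace of `V` for the form `J`. -/
def perp (J : Matrix ι ι F) (S : Submodule F (ι → F)) : Submodule F (ι → F) where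
  carrier := {v | ∀ s ∈ S, bf J v s = 0}
  add_mem' := by
    intro x y hx hy s hs
    rw [bf_add_left, hx s hs, hy s hs, add_zero]
  zero_mem' := by
    intro s _
    exact bf_zero_left J s
  smul_mem' := by
    intro c x hx s hs
    rw [bf_smul_left, hx s hs, mul_zero]

theorem mem_perp (J : Matrix ι ι F) (S : Submodule F (ι → F)) (v : ι → F) :
    v ∈ perp J S ↔ ∀ s ∈ S, bf J v s = 0 := Iff.rfl

/-- the image `g S` of a subspace under an invertible matrix. -/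
def img (g : Matrix.GeneralLinearGroup ι F) (S : Submodule F (ι → F)) : Submodule F (ι → F) :=
  S.map (Matrix.toLin' (g : Matrix ι ι F))

theorem mem_img (g : Matrix.GeneralLinearGroup ι F) (S : Submodule F (ι → F)) (v : ι → F) :
    v ∈ img g S ↔ ∃ s ∈ S, (g : Matrix ι ι F) *ᵥ s = v := by
  simp [img, Submodule.mem_map]

/-- `S` is a standard subspace `A ⊗ W`, `W` a totally singular plane of `B`. -/
def Std (J2 : Matrix (Fin b) (Fin b) F) (S : Submodule F (Fin a × Fin b → F)) : Prop :=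
  ∃ w₁ w₂ : Fin b → F, IsTS J2 w₁ w₂ ∧ S = Lpl (a := a) w₁ w₂

/-- `M` contains a non-trivial long root element `1 + c (u u'^* - u' u^*) ⊗ w w^*` of `B`-type
(`u, u'` independent, `w ≠ 0` singular). -/
def SgB (J1 : Matrix (Fin a) (Fin a) F) (J2 : Matrix (Fin b) (Fin b) F)
    (M : Subgroup (Matrix.GeneralLinearGroup (Fin a × Fin b) F)) : Prop :=
  ∃ (u u' : Fin a → F) (w : Fin b → F) (c : F),
    (∀ c₁ c₂ : F, c₁ • u + c₂ • u' = 0 → c₁ = 0 ∧ c₂ = 0) ∧ w ≠ 0 ∧ bf J2 w w = 0 ∧ c ≠ 0 ∧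
    InM M (XBm J2 (c • Nw J1 u u') w)

/-- STAB for points: an element of `M` mapping `A ⊗ w` into `A ⊗ w'` (`w, w'` singular) lies in `K0`. -/
def StabPt (J2 : Matrix (Fin b) (Fin b) F)
    (M : Subgroup (Matrix.GeneralLinearGroup (Fin a × Fin b) F)) : Prop :=
  ∀ g ∈ M, ∀ w w' : Fin b → F, w ≠ 0 → w' ≠ 0 → bf J2 w w = 0 → bf J2 w' w' = 0 →
    (∀ u : Fin a → F, ∃ u' : Fin a → F,
      (g : Matrix (Fin a × Fin b) (Fin a × Fin b) F) *ᵥ ten u w = ten u' w') → g ∈ K0 a b F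

/-- STAB for planes: an element of `M` mapping a standard subspace into a standard subspace lies in `K0`. -/
def StabPl (J2 : Matrix (Fin b) (Fin b) F)
    (M : Subgroup (Matrix.GeneralLinearGroup (Fin a × Fin b) F)) : Prop :=
  ∀ g ∈ M, ∀ w₁ w₂ w₁' w₂' : Fin b → F, IsTS J2 w₁ w₂ → IsTS J2 w₁' w₂' →
    (∀ v ∈ Lpl (a := a) w₁ w₂,
      (g : Matrix (Fin a × Fin b) (Fin a × Fin b) F) *ᵥ v ∈ Lpl (a := a) w₁' w₂') → g ∈ K0 a b F

end Cfsg.Agent.Lib.Helper28.TOO
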