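import Cfsg.Agent.Lib.Helper28.TOO.Defs

/-!
# Project TOO — definitions for the global block (rows G*)
-/

set_option autoImplicit false

namespace Cfsg.Agent.Lib.Helper28.TOO

open Matrix
open scoped Kronecker
open Cfsg.Agent.Lib.helper7.TP Cfsg.Agent.Lib.Helper21.TS

variable {ι : Type*} [Fintype ι] [DecidableEq ι] {a b : ℕ} {F : Type*} [Field F]

/-- the pointwise stabiliser of the subspace `U` in `M`. -/
def FixG (M : Subgroup (Matrix.GeneralLinearGroup ι F)) (U : Submodule F (ι → F)) :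
    Subgroup (Matrix.GeneralLinearGroup ι F) where
  carrier := {m | m ∈ M ∧ ∀ u ∈ U, (m : Matrix ι ι F) *ᵥ u = u}
  one_mem' := ⟨M.one_mem, fun u _ => by simp⟩
  mul_mem' := by
    rintro x y ⟨hx, hx'⟩ ⟨hy, hy'⟩
    refine ⟨M.mul_mem hx hy, fun u hu => ?_⟩
    rw [Units.val_mul, ← Matrix.mulVec_mulVec, hy' u hu, hx' u hu]
  inv_mem' := by
    rintro x ⟨hx, hx'⟩
    refine ⟨M.inv_mem hx, fun u hu => ?_⟩
    have h1 : ((x⁻¹ : Matrix.GeneralLinearGroup ι F) : Matrix ι ι F) * (x : Matrix ι ι F) = 1 := by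
      rw [← Units.val_mul, inv_mul_cancel, Units.val_one]
    calc ((x⁻¹ : Matrix.GeneralLinearGroup ι F) : Matrix ι ι F) *ᵥ u
        = ((x⁻¹ : Matrix.GeneralLinearGroup ι F) : Matrix ι ι F) *ᵥ ((x : Matrix ι ι F) *ᵥ u) := by
          rw [hx' u hu]
      _ = u := by rw [Matrix.mulVec_mulVec, h1, Matrix.one_mulVec]

theorem mem_FixG (M : Subgroup (Matrix.GeneralLinearGroup ι F)) (U : Submodule F (ι → F))
    (m : Matrix.GeneralLinearGroup ι F) :
    m ∈ FixG M U ↔ m ∈ M ∧ ∀ u ∈ U, (m : Matrix ι ι F) *ᵥ u = u := Iff.rfl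

/-- `e(W) = dim (S ∩ L_W^⊥)`. -/
noncomputable def ev (J1 : Matrix (Fin a) (Fin a) F) (J2 : Matrix (Fin b) (Fin b) F)
    (S : Submodule F (Fin a × Fin b → F)) (w₁ w₂ : Fin b → F) : ℕ :=
  Module.finrank F ↥(S ⊓ perp (JV J1 J2) (Lpl (a := a) w₁ w₂))

/-- the root group `X_W = {1 + c N_W}` as a subgroup of `GL` (for a totally singular plane). -/
def Xpl (J2 : Matrix (Fin b) (Fin b) F) (w₁ w₂ : Fin b → F) (h : NV (a := a) J2 w₁ w₂ * NV (a := a) J2 w₁ w₂ = 0) :
    Subgroup (Matrix.GeneralLinearGroup (Fin a × Fin b) F) where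
  carrier := {g | ∃ c : F, (g : Matrix (Fin a × Fin b) (Fin a × Fin b) F) = 1 + c • NV (a := a) J2 w₁ w₂}
  one_mem' := ⟨0, by simp⟩
  mul_mem' := by
    rintro x y ⟨c, hc⟩ ⟨c', hc'⟩
    refine ⟨c + c', ?_⟩
    rw [Units.val_mul, hc, hc']
    simp only [Matrix.add_mul, Matrix.mul_add, Matrix.one_mul, Matrix.mul_one, Matrix.smul_mul,
      Matrix.mul_smul, h, smul_zero, add_zero, add_smul]
    abel
  inv_mem' := by
    rintro x ⟨c, hc⟩
    refine ⟨-c, ?_⟩
    have h1 : (x : Matrix (Fin a × Fin b) (Fin a × Fin b) F) * (1 + (-c) • NV (a := a) J2 w₁ w₂) = 1 := by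
      rw [hc]
      simp only [neg_smul, Matrix.add_mul, Matrix.mul_add, Matrix.mul_neg, Matrix.neg_mul,
        Matrix.one_mul, Matrix.mul_one, Matrix.smul_mul, Matrix.mul_smul, h, smul_zero, neg_zero,
        add_zero]
      abel
    have h2 : ((x⁻¹ : Matrix.GeneralLinearGroup (Fin a × Fin b) F) :
        Matrix (Fin a × Fin b) (Fin a × Fin b) F) * (x : Matrix (Fin a × Fin b) (Fin a × Fin b) F) = 1 := by
      rw [← Units.val_mul, inv_mul_cancel, Units.val_one]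
    calc ((x⁻¹ : Matrix.GeneralLinearGroup (Fin a × Fin b) F) :
          Matrix (Fin a × Fin b) (Fin a × Fin b) F)
        = ((x⁻¹ : Matrix.GeneralLinearGroup (Fin a × Fin b) F) :
          Matrix (Fin a × Fin b) (Fin a × Fin b) F) *
            ((x : Matrix (Fin a × Fin b) (Fin a × Fin b) F) * (1 + (-c) • NV (a := a) J2 w₁ w₂)) := by
          rw [h1, Matrix.mul_one]
      _ = 1 + (-c) • NV (a := a) J2 w₁ w₂ := by
          rw [← Matrix.mul_assoc, h2, Matrix.one_mul]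

end Cfsg.Agent.Lib.Helper28.TOO
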